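import Groth.Agent.Lib.ExtCech.KoszulDual
import Mathlib.RingTheory.Flat.Basic
import Mathlib.Algebra.Category.ModuleCat.Monoidal.Basic
import Mathlib.Algebra.Homology.Embedding.Extend
import Mathlib.Algebra.Homology.Embedding.ExtendHomology
import Mathlib.Algebra.Homology.Embedding.CochainComplex

/-!
# Koszul cocones of flat modules and of resolutions
-/

set_option autoImplicit false
set_option backward.isDefEq.respectTransparency false
universe u

open CategoryTheory Limits CochainComplex DerCA HomologicalComplex MonoidalCategory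

namespace GrothLib.KReg3

open GrothLib.ExtCech

variable {R : Type u} [CommRing R]

/-- The module in degree zero. -/
noncomputable abbrev sing (M : ModuleCat.{u} R) : DRing.Cx R :=
  (CochainComplex.singleFunctor (ModuleCat.{u} R) 0).obj M

/-- Tensoring a complex with a module. -/
noncomputable abbrev tens (M : ModuleCat.{u} R) : DRing.Cx R ⥤ DRing.Cx R :=
  (tensorLeft M).mapHomologicalComplex (ComplexShape.up ℤ)

theorem nonempty_kG_sing (M : ModuleCat.{u} R) : ∀ fs : List R,
    Nonempty ((tens M).obj (kG fs (sing (ModuleCat.of R R))) ≅ kG fs (sing M)) := by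
  intro fs
  induction fs with
  | nil =>
    exact ⟨(HomologicalComplex.singleMapHomologicalComplex (tensorLeft M) (ComplexShape.up ℤ) 0).app _ ≪≫
      (CochainComplex.singleFunctor (ModuleCat.{u} R) 0).mapIso (ρ_ M)⟩
  | cons f fs ih =>
    obtain ⟨e⟩ := ih
    let F := tens M
    let ψ := f • 𝟙 (kG fs (sing (ModuleCat.of R R)))
    let φ' := f • 𝟙 (kG fs (sing M))
    have hψ : F.map ψ = f • 𝟙 (F.obj (kG fs (sing (ModuleCat.of R R)))) := by
      ext p : 1
      show (tensorLeft M).map (f • 𝟙 _) = _
      rw [Functor.map_smul, CategoryTheory.Functor.map_id]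
      rfl
    have hsq : F.map ψ ≫ e.hom = e.hom ≫ φ' := by
      rw [hψ, Linear.smul_comp, Linear.comp_smul, Category.id_comp, Category.comp_id]
    have hsq' : φ' ≫ e.inv = e.inv ≫ F.map ψ := by
      rw [Iso.comp_inv_eq, Category.assoc, hsq, Iso.inv_hom_id_assoc]
    let cone : F.obj (mappingCone ψ) ≅ mappingCone φ' :=
      mappingCone.mapHomologicalComplexIso ψ (tensorLeft M) ≪≫
      { hom := mappingCone.map (F.map ψ) φ' e.hom e.hom hsq
        inv := mappingCone.map φ' (F.map ψ) e.inv e.inv hsq'
        hom_inv_id := by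
          rw [← mappingCone.map_comp]
          simp only [Iso.hom_inv_id]
          exact mappingCone.map_id _
        inv_hom_id := by
          rw [← mappingCone.map_comp]
          simp only [Iso.inv_hom_id]
          exact mappingCone.map_id _ }
    exact ⟨(F.commShiftIso (-1 : ℤ)).app (mappingCone ψ) ≪≫
      (CategoryTheory.shiftFunctor (DRing.Cx R) (-1 : ℤ)).mapIso cone⟩

theorem tens_exactAt (M : ModuleCat.{u} R) [Module.Flat R M] (K : DRing.Cx R) (p : ℤ) (h : K.ExactAt p) :
    ((tens M).obj K).ExactAt p := by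
  show ((K.sc p).map (tensorLeft M)).Exact
  rw [ShortComplex.ShortExact.moduleCat_exact_iff_function_exact]
  exact Module.Flat.lTensor_exact M ((ShortComplex.ShortExact.moduleCat_exact_iff_function_exact _).1 h)

theorem isZero_kG_sing (fs : List R) (hfs : LCI.IsKoszulRegularSeq R fs) (M : ModuleCat.{u} R)
    [Module.Flat R M] (p : ℤ) (hp : p ≠ fs.length) : IsZero ((kG fs (sing M)).homology p) := by
  obtain ⟨e⟩ := nonempty_kG_sing M fs
  have h0 : IsZero ((kG fs (sing (ModuleCat.of R R))).homology p) := by
    obtain ⟨e₂⟩ := nonempty_kG_koszul fs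
    refine IsZero.of_iso ?_ ((HomologicalComplex.homologyFunctor _ _ p).mapIso e₂ ≪≫
      ((HomologicalComplex.homologyFunctor (ModuleCat.{u} R) (ComplexShape.up ℤ) 0).shiftIso
        (-(fs.length : ℤ)) p (p - fs.length) (by omega)).app (Koszul.koszul R fs))
    exact hfs _ (by omega)
  have := tens_exactAt M _ p ((exactAt_iff_isZero_homology _ _).2 h0)
  exact IsZero.of_iso ((exactAt_iff_isZero_homology _ _).1 this)
    ((HomologicalComplex.homologyFunctor _ _ p).mapIso e.symm)

theorem isZero_kG_of_acyclic (X : DRing.Cx R) (hX : ∀ p, IsZero (X.homology p)) :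
    ∀ (fs : List R) (p : ℤ), IsZero ((kG fs X).homology p) := by
  intro fs
  induction fs with
  | nil => exact hX
  | cons f fs ih =>
    intro p
    haveI := ModuleCat.subsingleton_of_isZero (ih p)
    let φ := f • 𝟙 (kG fs X)
    have hinj : Mono (HomologicalComplex.homologyMap (mappingCocone.fst φ) p) :=
      (exact_cocone φ (p - 1) p (by omega)).mono_g ((ih (p - 1)).eq_of_src _ _)
    haveI : Subsingleton ((mappingCocone φ).homology p) :=
      ((ModuleCat.mono_iff_injective _).1 hinj).subsingleton
    exact ModuleCat.isZero_of_subsingleton ((mappingCocone φ).homology p)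

/-- Extension of a complex by zero to negative degrees. -/
noncomputable abbrev ext0 : CochainComplex (ModuleCat.{u} R) ℕ ⥤ DRing.Cx R :=
  ComplexShape.embeddingUpNat.extendFunctor (ModuleCat.{u} R)

variable {K L P : CochainComplex (ModuleCat.{u} R) ℕ}

theorem isZero_ext0_X (K : CochainComplex (ModuleCat.{u} R) ℕ) (p : ℤ) (hp : p < 0) :
    IsZero ((ext0.obj K).X p) :=
  HomologicalComplex.isZero_extend_X K _ p fun n h => by
    have : (n : ℤ) = p := h
    omega

theorem ext0_comm (φ : K ⟶ L) (n : ℕ) :
    (HomologicalComplex.extendXIso K ComplexShape.embeddingUpNat (rfl : ComplexShape.embeddingUpNat.f n = (n : ℤ))).inv ≫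
        (HomologicalComplex.extendMap φ ComplexShape.embeddingUpNat).f (n : ℤ) =
      φ.f n ≫ (HomologicalComplex.extendXIso L ComplexShape.embeddingUpNat (rfl : ComplexShape.embeddingUpNat.f n = (n : ℤ))).inv := by
  rw [HomologicalComplex.extendMap_f φ ComplexShape.embeddingUpNat (i := n) (i' := (n : ℤ)) rfl]
  simp

theorem ext0_shortExact {S : ShortComplex (CochainComplex (ModuleCat.{u} R) ℕ)} (hS : S.ShortExact) :
    (S.map ext0).ShortExact := by
  refine HomologicalComplex.shortExact_of_degreewise_shortExact _ fun p => ?_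
  by_cases hp : 0 ≤ p
  · obtain ⟨n, rfl⟩ := Int.eq_ofNat_of_zero_le hp
    have h := hS.map_of_exact (HomologicalComplex.eval (ModuleCat.{u} R) (ComplexShape.up ℕ) n)
    refine ShortComplex.shortExact_of_iso (ShortComplex.isoMk
      (HomologicalComplex.extendXIso S.X₁ ComplexShape.embeddingUpNat (rfl : ComplexShape.embeddingUpNat.f n = (n : ℤ))).symm
      (HomologicalComplex.extendXIso S.X₂ ComplexShape.embeddingUpNat (rfl : ComplexShape.embeddingUpNat.f n = (n : ℤ))).symm
      (HomologicalComplex.extendXIso S.X₃ ComplexShape.embeddingUpNat (rfl : ComplexShape.embeddingUpNat.f n = (n : ℤ))).symm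
      ?_ ?_) h
    · exact ext0_comm S.f n
    · exact ext0_comm S.g n
  · have h₁ := isZero_ext0_X S.X₁ p (by omega)
    have h₂ := isZero_ext0_X S.X₂ p (by omega)
    have h₃ := isZero_ext0_X S.X₃ p (by omega)
    exact { exact := ShortComplex.exact_of_isZero_X₂ _ h₂
            mono_f := ⟨fun a b _ => h₁.eq_of_tgt a b⟩
            epi_g := ⟨fun a b _ => h₃.eq_of_src a b⟩ }

theorem isZero_ext0_homology_iff (K : CochainComplex (ModuleCat.{u} R) ℕ) (n : ℕ) :
    IsZero ((ext0.obj K).homology (n : ℤ)) ↔ IsZero (K.homology n) :=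
  (HomologicalComplex.extendHomologyIso K ComplexShape.embeddingUpNat (rfl : ComplexShape.embeddingUpNat.f n = (n : ℤ))).isZero_iff

theorem isZero_ext0_homology_neg (K : CochainComplex (ModuleCat.{u} R) ℕ) (p : ℤ) (hp : p < 0) :
    IsZero ((ext0.obj K).homology p) :=
  ((isZero_ext0_X K p hp).of_iso (Iso.refl _) |> fun h =>
    (exactAt_iff_isZero_homology _ _).1 (ShortComplex.exact_of_isZero_X₂ _ h))

/-- If a resolution `K` of a flat module is given, its Koszul cocone has cohomology only in top degree. -/
theorem isZero_kG_ext0 (fs : List R) (hfs : LCI.IsKoszulRegularSeq R fs) (M : ModuleCat.{u} R)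
    [Module.Flat R M] (K : CochainComplex (ModuleCat.{u} R) ℕ) (ι : M ⟶ K.X 0)
    (hι : Function.Injective ι) (h0 : ι ≫ K.d 0 1 = 0)
    (hker : ∀ z, K.d 0 1 z = 0 → ∃ m, ι m = z) (hex : ∀ n, IsZero (K.homology (n + 1)))
    (p : ℤ) (hp : p ≠ fs.length) : IsZero ((kG fs (ext0.obj K)).homology p) := by
  let K₀ : CochainComplex (ModuleCat.{u} R) ℕ := (CochainComplex.single₀ (ModuleCat.{u} R)).obj M
  let ψ : K₀ ⟶ K := (K.fromSingle₀Equiv M).symm ⟨ι, h0⟩
  have hψ0 : ψ.f 0 = ι := CochainComplex.fromSingle₀Equiv_symm_apply_f_zero ι h0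
  have hψ : ∀ n, Mono (ψ.f n) := by
    rintro (_ | n)
    · rw [hψ0]; exact (ModuleCat.mono_iff_injective _).2 hι
    · exact ⟨fun a b _ => (HomologicalComplex.isZero_single_obj_X _ _ _ _ (by omega)).eq_of_tgt a b⟩
  haveI : Mono ψ := HomologicalComplex.mono_of_mono_f _ hψ
  let S : ShortComplex (CochainComplex (ModuleCat.{u} R) ℕ) := ShortComplex.mk ψ (cokernel.π ψ) (cokernel.condition ψ)
  have hS : S.ShortExact := { exact := ShortComplex.exact_cokernel ψ }
  have hC : ∀ n, IsZero (S.X₃.homology n) := by
    intro n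
    cases n with
    | zero =>
      have he := hS.homology_exact₃ 0 1 rfl
      have hz : IsZero (S.X₁.homology 1) :=
        ((CochainComplex.exactAt_succ_single_obj M 0)).isZero_homology
      have hepi : Epi (HomologicalComplex.homologyMap S.g 0) := he.epi_f (hz.eq_of_tgt _ _)
      have hzero : HomologicalComplex.homologyMap S.g 0 = 0 := by
        have hepi₁ : Epi (HomologicalComplex.homologyMap S.f 0) := by
          have : QuasiIsoAt ψ 0 := by
            rw [CochainComplex.quasiIsoAt₀_iff]
            refine (ShortComplex.quasiIso_iff_of_zeros _ (K₀.shape _ _ (by simp))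
              ((HomologicalComplex.isZero_single_obj_X (ComplexShape.up ℕ) 0 M 1 (by omega)).eq_of_tgt _ _)
              (K.shape _ _ (by simp))).2 ?_
            refine ⟨?_, hψ 0⟩
            rw [ShortComplex.moduleCat_exact_iff]
            intro z hz
            obtain ⟨m, hm⟩ := hker z hz
            exact ⟨m, (ConcreteCategory.congr_hom hψ0 m).trans hm⟩
          have := (quasiIsoAt_iff_isIso_homologyMap ψ 0).1 this
          exact inferInstanceAs (Epi (HomologicalComplex.homologyMap ψ 0))
        rw [← cancel_epi (HomologicalComplex.homologyMap S.f 0), ← HomologicalComplex.homologyMap_comp,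
          S.zero, HomologicalComplex.homologyMap_zero, comp_zero]
      exact IsZero.of_epi_eq_zero _ hzero
    | succ n =>
      exact (hS.homology_exact₃ (n + 1) (n + 2) rfl).isZero_X₂ ((hex n).eq_of_src _ _)
        (((CochainComplex.exactAt_succ_single_obj M (n + 1))).isZero_homology.eq_of_tgt _ _)
  have hC' : ∀ q, IsZero ((ext0.obj S.X₃).homology q) := by
    intro q
    by_cases hq : 0 ≤ q
    · obtain ⟨n, rfl⟩ := Int.eq_ofNat_of_zero_le hq
      exact (isZero_ext0_homology_iff _ n).2 (hC n)
    · exact isZero_ext0_homology_neg _ q (by omega)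
  have hG := kG_shortExact (ext0_shortExact hS) fs
  have h₁ : IsZero ((kG fs (ext0.obj K₀)).homology p) := by
    let e : ext0.obj K₀ ≅ sing M :=
      HomologicalComplex.extendSingleIso ComplexShape.embeddingUpNat M 0 0 rfl
    let e' : kG fs (ext0.obj K₀) ≅ kG fs (sing M) :=
      { hom := kGMap fs e.hom
        inv := kGMap fs e.inv
        hom_inv_id := by rw [kGMap_comp, e.hom_inv_id, kGMap_id]
        inv_hom_id := by rw [kGMap_comp, e.inv_hom_id, kGMap_id] }
    exact (isZero_kG_sing fs hfs M p hp).of_iso ((HomologicalComplex.homologyFunctor _ _ p).mapIso e')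
  exact (hG.homology_exact₂ p).isZero_X₂ (h₁.eq_of_src _ _) ((isZero_kG_of_acyclic _ hC' fs p).eq_of_tgt _ _)
where
  kGMap_id : ∀ {fs : List R} {X : DRing.Cx R}, kGMap fs (𝟙 X) = 𝟙 _ := by
    intro fs
    induction fs with
    | nil => intros; rfl
    | cons f fs ih =>
      intro X
      ext p : 1
      refine cocone_ext _ ?_ ?_
      · show (coconeMap _ _ _ _ _).f p ≫ _ = 𝟙 _ ≫ _
        rw [coconeMap_fst_f, ih]
        simp
      · show (coconeMap _ _ _ _ _).f p ≫ _ = 𝟙 _ ≫ _
        rw [coconeMap_snd, ih]
        simp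

end GrothLib.KReg3
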