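import Groth.Agent.Lib.KReg3.Main
import Groth.Agent.Lib.OX.LocFreeTensor
import Groth.Agent.Lib.OX.RgammaZ
import Groth.Agent.Lib.Euler.Coh
import Groth.Agent.Lib.QCoh.ClosedImmersion
import Groth.Agent.Lib.LocFreeHom.Lift
import Groth.Agent.S15821
import Groth.Prelude.Def_RegImm
import Mathlib.CategoryTheory.Abelian.Injective.Ext

/-!
# Ext from supported modules below the codimension
-/

set_option autoImplicit false
set_option backward.isDefEq.respectTransparency false
set_option linter.style.haveILetI false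
set_option maxHeartbeats 800000
universe u

open CategoryTheory CategoryTheory.Limits AlgebraicGeometry TopologicalSpace

namespace GrothLib.KReg3

variable {X U : Scheme.{u}} (j : U ⟶ X) [IsOpenImmersion j]

/-- A map from a supported module lifts to the sections with support. -/
theorem exists_lift_gammaZ {A N : X.Modules} (hA : IsZero ((Scheme.Modules.restrictFunctor j).obj A))
    (φ : A ⟶ N) : ∃ ψ : A ⟶ (DCoh.gammaZ j).obj N, ψ ≫ (LocQCoh25.gammaι j).app N = φ := by
  refine ⟨kernel.lift _ φ ?_, kernel.lift_ι _ _ _⟩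
  have h : φ ≫ (Scheme.Modules.restrictAdjunction j).unit.app N =
      (Scheme.Modules.restrictAdjunction j).unit.app A ≫
        (Scheme.Modules.restrictFunctor j ⋙ Scheme.Modules.pushforward j).map φ :=
    (Scheme.Modules.restrictAdjunction j).unit.naturality φ
  rw [h, ((Scheme.Modules.pushforward j).map_isZero hA).eq_of_src
    ((Scheme.Modules.restrictFunctor j ⋙ Scheme.Modules.pushforward j).map φ) 0, comp_zero]

instance (N : X.Modules) : Mono ((LocQCoh25.gammaι j).app N) := inferInstanceAs (Mono (kernel.ι _))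

/-- The sections with support of an injective extend along monomorphisms into supported modules. -/
theorem exists_extend {A B I : X.Modules} [Injective I] (a : A ⟶ B) [Mono a]
    (hB : IsZero ((Scheme.Modules.restrictFunctor j).obj B)) (φ : A ⟶ (DCoh.gammaZ j).obj I) :
    ∃ ψ : B ⟶ (DCoh.gammaZ j).obj I, a ≫ ψ = φ := by
  obtain ⟨ψ, hψ⟩ := exists_lift_gammaZ j hB (Injective.factorThru (φ ≫ (LocQCoh25.gammaι j).app I) a)
  exact ⟨ψ, (cancel_mono ((LocQCoh25.gammaι j).app I)).1
    ((Category.assoc _ _ _).trans ((congrArg (a ≫ ·) hψ).trans (Injective.comp_factorThru _ _)))⟩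

/-- A section of the differential onto the cycles, from a retraction onto the previous cycles. -/
theorem exists_section (J : CochainComplex X.Modules ℕ) (n : ℕ) (hz : IsZero (J.homology (n + 1)))
    (r : J.X n ⟶ J.cycles n) (hr : J.iCycles n ≫ r = 𝟙 _) :
    ∃ s : J.cycles (n + 1) ⟶ J.X n, s ≫ J.toCycles n (n + 1) = 𝟙 _ := by
  haveI : Epi (J.toCycles n (n + 1)) :=
    Preadditive.epi_of_isZero_cokernel' _ (J.homologyIsCokernel n (n + 1) (CochainComplex.prev_nat_succ n)) hz
  have w : J.iCycles n ≫ J.toCycles n (n + 1) = 0 := by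
    rw [← cancel_mono (J.iCycles (n + 1)), Category.assoc, J.toCycles_i, zero_comp, J.iCycles_d]
  let S := ShortComplex.mk _ _ w
  have hS : S.Exact := ShortComplex.exact_of_f_is_kernel S
    (isKernelOfComp (J.iCycles (n + 1)) (J.d n (n + 1)) (J.cyclesIsKernel n (n + 1) (CochainComplex.next ℕ n))
      w (J.toCycles_i n (n + 1)))
  haveI : Epi S.g := ‹Epi (J.toCycles n (n + 1))›
  have hk : S.f ≫ (𝟙 _ - r ≫ J.iCycles n) = 0 := by
    show J.iCycles n ≫ _ = 0
    rw [Preadditive.comp_sub, Category.comp_id, reassoc_of% hr, sub_self]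
  refine ⟨hS.desc _ hk, ?_⟩
  rw [← cancel_epi (J.toCycles n (n + 1))]
  refine (Category.assoc _ _ _).symm.trans ?_
  rw [show J.toCycles n (n + 1) ≫ hS.desc _ hk = 𝟙 _ - r ≫ J.iCycles n from hS.g_desc _ hk,
    Preadditive.sub_comp, Category.id_comp, Category.assoc, w, comp_zero, sub_zero, Category.comp_id]

/-- A supported module has no maps in low degree to the sections with support of an injective resolution. -/
theorem exists_factor (K : CochainComplex X.Modules ℕ) (hK : ∀ n, Injective (K.X n)) (c : ℕ)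
    (hz : ∀ q, q < c → IsZero ((LocQCoh25.mapCx (DCoh.gammaZ j) K).homology q))
    {A : X.Modules} (q : ℕ) (hq : q < c) (φ : A ⟶ (DCoh.gammaZ j).obj (K.X q))
    (hφ : φ ≫ (DCoh.gammaZ j).map (K.d q (q + 1)) = 0) :
    ∃ g : A ⟶ (DCoh.gammaZ j).obj (K.X (q - 1)), g ≫ (DCoh.gammaZ j).map (K.d (q - 1) q) = φ := by
  let J := LocQCoh25.mapCx (DCoh.gammaZ j) K
  have hres : ∀ n, IsZero ((Scheme.Modules.restrictFunctor j).obj (J.X n)) := fun n =>
    OX.isZero_restrict_gammaZ j (K.X n)
  have hz₀ : 0 < c → IsZero (J.cycles 0) := fun hc => (hz 0 hc).of_iso (CochainComplex.isoHomologyπ₀ J)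
  have key : ∀ n, n < c → ∃ r : J.X n ⟶ J.cycles n, J.iCycles n ≫ r = 𝟙 _ := by
    intro n
    induction n with
    | zero => exact fun hn => ⟨0, (hz₀ hn).eq_of_src _ _⟩
    | succ n ih =>
      intro hn
      obtain ⟨r, hr⟩ := ih (by omega)
      obtain ⟨s, hs⟩ := exists_section J n (hz _ hn) r hr
      haveI := hK n
      obtain ⟨ψ, hψ⟩ := exists_extend j (J.iCycles (n + 1)) (hres (n + 1)) s
      exact ⟨ψ ≫ J.toCycles n (n + 1), (Category.assoc _ _ _).symm.trans
        ((congrArg (· ≫ J.toCycles n (n + 1)) hψ).trans hs)⟩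
  let l : A ⟶ J.cycles q := J.liftCycles φ (q + 1) (CochainComplex.next ℕ q) hφ
  have hl : l ≫ J.iCycles q = φ := J.liftCycles_i _ _ _ _
  obtain _ | n := q
  · refine ⟨0, ?_⟩
    rw [zero_comp, ← hl, (hz₀ hq).eq_of_tgt l 0, zero_comp]
  · obtain ⟨r, hr⟩ := key n (by omega)
    obtain ⟨s, hs⟩ := exists_section J n (hz _ hq) r hr
    refine ⟨l ≫ s, ?_⟩
    show (l ≫ s) ≫ J.d n (n + 1) = φ
    rw [← J.toCycles_i n (n + 1), Category.assoc, reassoc_of% hs]
    exact hl

theorem ext_subsingleton_of_supported [HasExt.{u} X.Modules] [HasInjectiveResolutions X.Modules] (U₀ : X.Opens) (c : ℕ)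
    (hZ : ∀ x : X, ∃ (V : X.Opens) (fs : List Γ(X, V)), x ∈ V ∧ IsAffineOpen V ∧ fs.length = c ∧
      LCI.IsKoszulRegularSeq Γ(X, V) fs ∧
      X.zeroLocus (U := V) {a | a ∈ fs} ∩ (V : Set ↥X) = (U₀ : Set ↥X)ᶜ ∩ (V : Set ↥X))
    (E : X.Modules) [E.IsQuasicoherent] (hE : FlatMod.IsFlat E) (A : X.Modules)
    (hA : IsZero ((Scheme.Modules.restrictFunctor U₀.ι).obj A)) (q : ℕ) (hq : q < c) :
    Subsingleton (Abelian.Ext A E q) := by
  let IR := injectiveResolution E
  have hz : ∀ p, p < c → IsZero ((LocQCoh25.mapCx (DCoh.gammaZ U₀.ι) IR.cocomplex).homology p) := fun p hp =>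
    (isZero_rightDerived_gammaZ_of_lt U₀ c hZ E hE p hp).of_iso (IR.isoRightDerivedObj (DCoh.gammaZ U₀.ι) p).symm
  refine subsingleton_of_forall_eq 0 fun α => ?_
  obtain ⟨f, hf, rfl⟩ := IR.extMk_surjective α (q + 1) rfl
  obtain ⟨φ, hφ⟩ := exists_lift_gammaZ U₀.ι hA f
  have hnat : ∀ p p', (DCoh.gammaZ U₀.ι).map (IR.cocomplex.d p p') ≫ (LocQCoh25.gammaι U₀.ι).app _ =
      (LocQCoh25.gammaι U₀.ι).app _ ≫ IR.cocomplex.d p p' := fun p p' =>
    (LocQCoh25.gammaι U₀.ι).naturality (IR.cocomplex.d p p')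
  have hφ0 : φ ≫ (DCoh.gammaZ U₀.ι).map (IR.cocomplex.d q (q + 1)) = 0 := by
    rw [← cancel_mono ((LocQCoh25.gammaι U₀.ι).app _), Category.assoc, hnat, reassoc_of% hφ, zero_comp]
    exact hf
  obtain ⟨g, hg⟩ := exists_factor U₀.ι IR.cocomplex IR.injective c hz q hq φ hφ0
  obtain _ | p := q
  · have hf0 : f = 0 := by
      rw [← hφ, ← hg]
      rw [show IR.cocomplex.d (0 - 1) 0 = 0 from IR.cocomplex.shape _ _ (by simp), Functor.map_zero, comp_zero,
        zero_comp]
    subst hf0
    exact IR.extMk_zero 1 rfl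
  · refine (IR.extMk_eq_zero_iff f (p + 2) rfl hf p rfl).2 ⟨g ≫ (LocQCoh25.gammaι U₀.ι).app _, ?_⟩
    rw [← hφ, ← hg]
    exact (Category.assoc _ _ _).trans ((congrArg (g ≫ ·) (hnat p (p + 1)).symm).trans (Category.assoc _ _ _).symm)

theorem ext_pushforward_subsingleton {X Z : Scheme.{u}} [HasExt.{u} X.Modules] (i : Z ⟶ X) [IsClosedImmersion i] (c : ℕ)
    (hi : RegImm.IsRegularImmersionOfCodim RegImm.Kind.regular c i) (E : X.Modules)
    (hE : FlatMod.IsFinLocFree E) (F : Z.Modules) (q : ℕ) (hq : q < c) :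
    Subsingleton (Abelian.Ext ((Scheme.Modules.pushforward i).obj F) E q) := by
  let U₀ : X.Opens := ⟨(Set.range i)ᶜ, i.isClosedEmbedding.isClosed_range.isOpen_compl⟩
  haveI : E.IsQuasicoherent := Euler.isQuasicoherent_of_isFinLocFree hE
  refine ext_subsingleton_of_supported U₀ c (fun x => ?_) E (fun x => OX.flat_of_isFinLocFree hE x) _ ?_ q hq
  · by_cases hx : x ∈ Set.range i
    · obtain ⟨z, rfl⟩ := hx
      obtain ⟨U, hzU, -, rs, hlen, hseq, hker⟩ := hi.2 z
      refine ⟨U.1, rs, hzU, U.2, hlen,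
        (Groth.Agent.S15821.result Γ(X, U.1) rs (RingTheory.Sequence.IsRegular.toIsWeaklyRegular hseq)).1, ?_⟩
      have h1 := i.ker.coe_support_inter U
      rw [Scheme.Hom.ker_apply, hker] at h1
      have h2 : X.zeroLocus (U := U.1) {a | a ∈ rs} ∩ (U.1 : Set X) = (i.ker.support : Set X) ∩ U.1 := by
        rw [h1, ← Scheme.zeroLocus_span]
      rw [h2]
      refine congrArg (· ∩ (U.1 : Set X)) ?_
      have h3 : (i.ker.support : Set X) = closure (Set.range i) := by rw [Scheme.Hom.support_ker]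
      rw [h3, i.isClosedEmbedding.isClosed_range.closure_eq]
      exact (compl_compl _).symm
    · obtain ⟨W, hW, hxW, hWle⟩ := exists_isAffineOpen_mem_and_subset (U := U₀) (x := x) hx
      refine ⟨W, List.replicate c 1, hxW, hW, List.length_replicate, (Groth.Agent.S15821.result Γ(X, W) _ ?_).1, ?_⟩
      · refine (RingTheory.Sequence.isWeaklyRegular_iff _ _).2 fun k hk => ?_
        rw [List.getElem_replicate]
        exact IsSMulRegular.one _
      · ext y
        simp only [Set.mem_inter_iff, Scheme.mem_zeroLocus_iff, Set.mem_compl_iff, SetLike.mem_coe,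
          Set.mem_ofPred_eq, List.mem_replicate]
        constructor
        · rintro ⟨h, hy⟩
          refine absurd hy ?_
          have h' := h 1 ⟨by omega, rfl⟩
          rw [Scheme.basicOpen_of_isUnit X isUnit_one] at h'
          exact h'
        · rintro ⟨h, hy⟩
          exact absurd (hWle hy) h
  · refine OX.isZero_restrict_of_support U₀.ι fun y hy => ?_
    exact y.2 (QCoh.support_pushforward_subset_range i F hy)

end GrothLib.KReg3
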