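import Groth.Agent.Lib.KReg3.Sec

/-!
# Local cohomology along a Koszul-regular sequence
-/

set_option autoImplicit false
set_option backward.isDefEq.respectTransparency false
set_option linter.style.haveILetI false
set_option maxHeartbeats 800000
universe u

open CategoryTheory CategoryTheory.Limits AlgebraicGeometry TopologicalSpace

namespace GrothLib.KReg3

open GrothLib.Cocyc GrothLib.ExtCech

section Alg

variable {R : Type u} [CommRing R]

theorem homology_torsion (C : CochainComplex (ModuleCat.{u} R) ℕ) (n : ℕ) (g : R)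
    (h : ∀ z : C.X n, C.d n (n + 1) z = 0 → ∃ (k : ℕ) (w : C.X (n - 1)), C.d (n - 1) n w = g ^ k • z)
    (x : C.homology n) : ∃ k : ℕ, g ^ k • x = 0 := by
  obtain ⟨c, rfl⟩ := (ModuleCat.epi_iff_surjective (C.homologyπ n)).1 inferInstance x
  have hc : C.d n (n + 1) (C.iCycles n c) = 0 := ConcreteCategory.congr_hom (C.iCycles_d n (n + 1)) c
  obtain ⟨k, w, hw⟩ := h _ hc
  have hinj := (ModuleCat.mono_iff_injective (C.iCycles n)).1 inferInstance
  have hw' : C.toCycles (n - 1) n w = g ^ k • c := hinj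
    (((ConcreteCategory.congr_hom (C.toCycles_i (n - 1) n) w).trans hw).trans
      ((C.iCycles n).hom.map_smul (g ^ k) c).symm)
  refine ⟨k, ?_⟩
  rw [← map_smul, ← hw']
  exact ConcreteCategory.congr_hom (C.toCycles_comp_homologyπ (n - 1) n) w

theorem eq_zero_of_socle {M : Type u} [AddCommGroup M] [Module R M] (fs : List R)
    (htor : ∀ g ∈ fs, ∀ x : M, ∃ k : ℕ, g ^ k • x = 0)
    (hsoc : ∀ x : M, (∀ f ∈ fs, f • x = 0) → x = 0) : ∀ x : M, x = 0 := by
  have key : ∀ gs : List R, (∀ g ∈ gs, g ∈ fs) → ∀ z : M,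
      (∀ f ∈ fs, f ∈ gs ∨ f • z = 0) → z = 0 := by
    intro gs
    induction gs with
    | nil => exact fun _ z h => hsoc z fun f hf => (h f hf).resolve_left (by simp)
    | cons g gs ihg =>
      intro hgs z hzz
      obtain ⟨k, hk⟩ := htor g (hgs g List.mem_cons_self) z
      have hz' : ∀ (j : ℕ) (w : M), (∀ f ∈ fs, f ∈ g :: gs ∨ f • w = 0) → g ^ j • w = 0 → w = 0 := by
        intro j
        induction j with
        | zero => intro w _ h; simpa using h
        | succ j ihj =>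
          intro w hw h
          have hg0 : g • w = 0 := ihj (g • w) (fun f hf => (hw f hf).imp_right fun e => by
            rw [smul_comm, e, smul_zero]) (by rw [← mul_smul, ← pow_succ]; exact h)
          refine ihg (fun x hx => hgs x (List.mem_cons_of_mem _ hx)) w fun f hf => ?_
          rcases hw f hf with h' | h'
          · rcases List.mem_cons.1 h' with rfl | h''
            · exact Or.inr hg0
            · exact Or.inl h''
          · exact Or.inr h'
      exact hz' k z hzz hk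
  exact fun x => key fs (fun g hg => hg) x fun f hf => Or.inl hf

end Alg

variable {X : Scheme.{u}} {V : X.Opens}

/-- The union of the basic opens of a list. -/
noncomputable def Bl : List Γ(X, V) → X.Opens
  | [] => ⊥
  | g :: gs => Bl gs ⊔ X.basicOpen g

theorem mem_Bl : ∀ (gs : List Γ(X, V)) (y : X), y ∈ Bl gs ↔ ∃ g ∈ gs, y ∈ X.basicOpen g := by
  intro gs
  induction gs with
  | nil => intro y; simp [Bl]
  | cons g gs ih =>
    intro y
    simp only [Bl, List.exists_mem_cons_iff, ← ih]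
    exact or_comm

theorem isCompact_inf_Bl {W : X.Opens} (hWA : IsAffineOpen W) (hW : W ≤ V) : ∀ gs : List Γ(X, V),
    IsCompact ((W ⊓ Bl gs : X.Opens) : Set X) := by
  intro gs
  induction gs with
  | nil => rw [show W ⊓ Bl ([] : List Γ(X, V)) = ⊥ from inf_bot_eq W]; exact isCompact_empty
  | cons g gs ih =>
    rw [show W ⊓ Bl (g :: gs) = (W ⊓ Bl gs) ⊔ (W ⊓ X.basicOpen g) from inf_sup_left _ _ _]
    refine ih.union ?_
    rw [show W ⊓ X.basicOpen g = X.basicOpen (X.presheaf.map (homOfLE hW).op g) from (X.basicOpen_res _ _).symm]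
    exact (hWA.basicOpen _).isCompact

variable {K : CochainComplex X.Modules ℕ} {F : X.Modules} [F.IsQuasicoherent] {ι₀ : F ⟶ K.X 0}

theorem exists_torsion (hK : Resolves K F ι₀) (hV : IsAffineOpen V) (fs : List Γ(X, V)) {W : X.Opens}
    (hWA : IsAffineOpen W) (hW : W ≤ V) (g : Γ(X, V)) (hg : g ∈ fs) (i : ℕ) (z : Γ(K.X i, W))
    (hzB : rs (inf_le_left : W ⊓ Bl fs ≤ W) z = 0) (hz : Coc K i z) :
    ∃ (k : ℕ) (w : Γ(K.X (i - 1), W)), rs (inf_le_left : W ⊓ Bl fs ≤ W) w = 0 ∧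
      (K.d (i - 1) i).app W w = gp g hW k z := by
  have hgW := good_of_isAffineOpen g hK hWA
  have hgT := good_of_isCompact g hK hV.isQuasiSeparated (inf_le_left.trans hW : W ⊓ Bl fs ≤ V)
    (isCompact_inf_Bl hWA hW fs)
  have hD : W ⊓ X.basicOpen g ≤ W ⊓ Bl fs :=
    inf_le_inf_left W fun y hy => (mem_Bl fs y).2 ⟨g, hg, hy⟩
  have hz' : rs (inf_le_left : W ⊓ X.basicOpen g ≤ W) z = 0 := by
    rw [← rs_rs (inf_le_left : W ⊓ Bl fs ≤ W) hD, hzB, map_zero]
  obtain _ | q := i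
  · obtain ⟨k, hk⟩ := (hgW 0).1 hW z hz ((bdy_zero_iff _ _).2 hz')
    exact ⟨k, 0, map_zero _, (map_zero _).trans ((bdy_zero_iff _ _).1 hk).symm⟩
  · obtain ⟨(w₀ : Γ(K.X q, W)), (hw₀ : (K.d q (q + 1)).app W w₀ = z)⟩ := hK.exact hWA q z hz
    have hy : Coc K q (rs (inf_le_left : W ⊓ X.basicOpen g ≤ W) w₀) := by
      show (K.d q (q + 1)).app _ _ = 0
      rw [app_rs, hw₀, hz']
    obtain ⟨k, m, hm, hb⟩ := (hgW q).2 hW _ hy
    let v : Γ(K.X q, W) := gp g hW k w₀ - m
    have hv : (K.d q (q + 1)).app W v = gp g hW k z := by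
      simp only [v]
      rw [map_sub, app_gp, hw₀, (hm : (K.d q (q + 1)).app W m = 0), sub_zero]
    have hvT : Coc K q (rs (inf_le_left : W ⊓ Bl fs ≤ W) v) := by
      show (K.d q (q + 1)).app _ _ = 0
      rw [app_rs, hv, rs_gp, hzB, map_zero]
    have hbT : Bdy K q (rs (inf_le_left : (W ⊓ Bl fs) ⊓ X.basicOpen g ≤ W ⊓ Bl fs)
        (rs (inf_le_left : W ⊓ Bl fs ≤ W) v)) := by
      have h := hb.rs (inf_le_inf_right _ inf_le_left : (W ⊓ Bl fs) ⊓ X.basicOpen g ≤ W ⊓ X.basicOpen g)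
      rw [← rs_gp g (inf_le_left : W ⊓ X.basicOpen g ≤ W) hW, ← map_sub, rs_rs] at h
      rwa [rs_rs]
    obtain ⟨k', a, ha⟩ := (hgT q).1 (inf_le_left.trans hW) _ hvT hbT
    obtain ⟨b, rfl⟩ := hK.flasque (q - 1) (inf_le_left : W ⊓ Bl fs ≤ W) a
    rw [app_rs] at ha
    refine ⟨k' + k, gp g hW k' v - (K.d (q - 1) q).app W b, ?_, ?_⟩
    · show rs _ (gp g hW k' v - (K.d (q - 1) q).app W b) = 0
      rw [map_sub, rs_gp, ha]
      exact sub_self _
    · show (K.d q (q + 1)).app W _ = _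
      rw [map_sub, app_gp, hv, d_d, sub_zero, gp_gp]

theorem flat_sec (hF : FlatMod.IsFlat F) (hV : IsAffineOpen V) {W : X.Opens} (hWA : IsAffineOpen W)
    (hW : W ≤ V) : Module.Flat Γ(X, V) (Sec hW F) := by
  letI : Algebra Γ(X, V) Γ(X, W) := (X.presheaf.map (homOfLE hW).op).hom.toAlgebra
  haveI : Module.Flat Γ(X, V) Γ(X, W) := by
    have h := (𝟙 X : X ⟶ X).flat_appLE hV hWA hW
    have e : (𝟙 X : X ⟶ X).appLE V W hW = X.presheaf.map (homOfLE hW).op := by
      simp [Scheme.Hom.appLE]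
    rw [e] at h
    exact h
  haveI : Module.Flat Γ(X, W) Γ(F, W) := Ferrand.flat_sections_self F hF hWA
  letI : Module Γ(X, V) Γ(F, W) := Module.compHom _ (X.presheaf.map (homOfLE hW).op).hom
  haveI : IsScalarTower Γ(X, V) Γ(X, W) Γ(F, W) := IsScalarTower.of_algebraMap_smul fun _ _ => rfl
  exact Module.Flat.trans Γ(X, V) Γ(X, W) Γ(F, W)

theorem isZero_kG_krCx (hK : Resolves K F ι₀) (hι₀ : ι₀ ≫ K.d 0 1 = 0) (hF : FlatMod.IsFlat F)
    (hV : IsAffineOpen V) (fs : List Γ(X, V)) (hfs : LCI.IsKoszulRegularSeq Γ(X, V) fs) {W : X.Opens}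
    (hWA : IsAffineOpen W) (hW : W ≤ V) (p : ℤ) (hp : p < fs.length) :
    ∀ gs : List Γ(X, V), (∀ g ∈ gs, g ∈ fs) →
      IsZero ((kG fs (ext0.obj (krCx K hW (Bl gs)))).homology p) := by
  intro gs
  induction gs with
  | nil =>
    intro _
    haveI := flat_sec (F := F) hF hV hWA hW
    have hbot : ∀ {n : ℕ} (z : Γ(K.X n, W)),
        rs (inf_le_left : W ⊓ Bl ([] : List Γ(X, V)) ≤ W) z = 0 :=
      fun z => LocVanish20.eq_zero_of_le_bot inf_le_right _
    let ι : ModuleCat.of Γ(X, V) (Sec hW F) ⟶ (krCx K hW (Bl ([] : List Γ(X, V)))).X 0 :=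
      ModuleCat.ofHom
        { toFun := fun m => ⟨ι₀.app W (show Γ(F, W) from m), hbot _⟩
          map_add' := fun a b => Subtype.ext (map_add (QCoh.appLinear ι₀ W) _ _)
          map_smul' := fun r m => Subtype.ext (Scheme.Modules.Hom.app_smul ι₀ _ _) }
    refine isZero_kG_ext0 fs hfs _ (krCx K hW (Bl ([] : List Γ(X, V)))) ι ?_ ?_ ?_ ?_ p hp.ne
    · exact fun a b h => hK.injective W (congrArg Subtype.val h)
    · ext m
      refine Subtype.ext ?_
      exact ConcreteCategory.congr_hom (congrArg (fun t => Scheme.Modules.Hom.app t W) hι₀) (show Γ(F, W) from m)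
    · intro z hz
      obtain ⟨m, hm⟩ := (hK.coc_iff (show Γ(K.X 0, W) from z.1)).1 (congrArg Subtype.val hz)
      exact ⟨m, Subtype.ext hm⟩
    · intro n
      refine (HomologicalComplex.exactAt_iff_isZero_homology _ _).1 ?_
      rw [(krCx K hW _).exactAt_iff' n (n + 1) (n + 2) (CochainComplex.prev_nat_succ n) (CochainComplex.next ℕ _),
        ShortComplex.moduleCat_exact_iff]
      intro z hz
      obtain ⟨w, hw⟩ := hK.exact hWA n (show Γ(K.X (n + 1), W) from z.1) (congrArg Subtype.val hz)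
      exact ⟨⟨w, hbot _⟩, Subtype.ext hw⟩
  | cons g gs ih =>
    intro hgs
    obtain ⟨S, hS, h₁, h₂, h₃⟩ := exists_supportSES hK.flasque hW (Bl gs) (X.basicOpen g)
    have hG := kG_shortExact (ext0_shortExact hS) fs
    have hz₃ : IsZero ((kG fs (ext0.obj S.X₃)).homology (p - 1)) := by
      rw [h₃]
      exact isZero_kG_of_bijective fs g (hgs g List.mem_cons_self) _
        (fun q => isIso_smul_krCx g _ inf_le_right _ q) _
    have hz₂ : IsZero ((kG fs (ext0.obj S.X₂)).homology p) := by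
      rw [h₂]
      exact ih fun x hx => hgs x (List.mem_cons_of_mem _ hx)
    have hz₁ : IsZero ((kG fs (ext0.obj S.X₁)).homology p) :=
      (hG.homology_exact₁ (p - 1) p (show p - 1 + 1 = p by omega)).isZero_X₂ (hz₃.eq_of_src _ _)
        (hz₂.eq_of_tgt _ _)
    rw [h₁] at hz₁
    exact hz₁

theorem isZero_krCx_homology (hK : Resolves K F ι₀) (hι₀ : ι₀ ≫ K.d 0 1 = 0) (hF : FlatMod.IsFlat F)
    (hV : IsAffineOpen V) (fs : List Γ(X, V)) (hfs : LCI.IsKoszulRegularSeq Γ(X, V) fs) {W : X.Opens}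
    (hWA : IsAffineOpen W) (hW : W ≤ V) (i : ℕ) (hi : i < fs.length) :
    IsZero ((krCx K hW (Bl fs)).homology i) := by
  induction i using Nat.strong_induction_on with
  | _ i ih =>
    let E := ext0.obj (krCx K hW (Bl fs))
    have hlow : ∀ p : ℤ, p < i → IsZero (E.homology p) := by
      intro p hp
      by_cases hp0 : 0 ≤ p
      · obtain ⟨n, rfl⟩ := Int.eq_ofNat_of_zero_le hp0
        exact (isZero_ext0_homology_iff _ n).2 (ih n (by omega) (by omega))
      · exact isZero_ext0_homology_neg _ p (by omega)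
    obtain ⟨-, π, -, hrange⟩ := socle_kG E (i : ℤ) hlow fs
    haveI := ModuleCat.subsingleton_of_isZero
      (isZero_kG_krCx hK hι₀ hF hV fs hfs hWA hW (i : ℤ) (by omega) fs (fun g hg => hg))
    let e := HomologicalComplex.extendHomologyIso (krCx K hW (Bl fs)) ComplexShape.embeddingUpNat
      (rfl : ComplexShape.embeddingUpNat.f i = (i : ℤ))
    have hinj : Function.Injective e.inv.hom := (ModuleCat.mono_iff_injective _).1 inferInstance
    refine @ModuleCat.isZero_of_subsingleton _ _ _ (subsingleton_of_forall_eq 0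
      (eq_zero_of_socle fs ?_ ?_))
    · intro g hg x
      refine homology_torsion _ i g (fun z hz => ?_) x
      obtain ⟨k, w, hwB, hw⟩ := exists_torsion hK hV fs hWA hW g hg i (show Γ(K.X i, W) from z.1) z.2
        (congrArg Subtype.val hz)
      refine ⟨k, ⟨w, hwB⟩, Subtype.ext (hw.trans ?_)⟩
      show (X.presheaf.map (homOfLE hW).op g) ^ k • (show Γ(K.X i, W) from z.1) =
        X.presheaf.map (homOfLE hW).op (g ^ k) • (show Γ(K.X i, W) from z.1)
      rw [map_pow]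
    · intro x hx
      obtain ⟨v, hv⟩ := hrange (e.inv.hom x) fun f hf =>
        (map_smul e.inv.hom f x).symm.trans ((congrArg _ (hx f hf)).trans (map_zero _))
      rw [Subsingleton.elim v 0, map_zero] at hv
      exact hinj (hv.symm.trans (map_zero _).symm)

theorem isZero_rightDerived_gammaZ_of_lt (U : X.Opens) [HasInjectiveResolutions X.Modules] (c : ℕ)
    (hZ : ∀ x : X, ∃ (V : X.Opens) (fs : List Γ(X, V)), x ∈ V ∧ IsAffineOpen V ∧ fs.length = c ∧
      LCI.IsKoszulRegularSeq Γ(X, V) fs ∧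
      X.zeroLocus (U := V) {a | a ∈ fs} ∩ (V : Set ↥X) = (U : Set ↥X)ᶜ ∩ (V : Set ↥X))
    (F : X.Modules) [F.IsQuasicoherent] (hF : FlatMod.IsFlat F) (i : ℕ) (hi : i < c) :
    IsZero (((DCoh.gammaZ U.ι).rightDerived i).obj F) := by
  let IR := injectiveResolution F
  have hK := Cohom.resolves (Cohom.FlRes.ofInjective IR)
  refine IsZero.of_iso ?_ (IR.isoRightDerivedObj (DCoh.gammaZ U.ι) i)
  refine LocVanish20.isZero_homology_of_local _ i fun x T hx => ?_
  obtain ⟨V, fs, hxV, hV, hlen, hfs, hZV⟩ := hZ x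
  obtain ⟨W, hW, hxW, hWle⟩ := X.isBasis_affineOpens.exists_subset_of_mem_open
    (show x ∈ (T ⊓ V : X.Opens) from ⟨hx, hxV⟩) (T ⊓ V : X.Opens).2
  obtain ⟨W, hWA, rfl⟩ := hW
  have hWV : W ≤ V := fun y hy => (hWle hy).2
  refine ⟨W, hxW, fun y hy => (hWle hy).1, fun z hz => ?_⟩
  have hU : ∀ y ∈ W, y ∈ U ↔ y ∈ Bl fs := fun y hy => by
    have h := congrArg (y ∈ ·) hZV
    simp only [Set.mem_inter_iff, Scheme.mem_zeroLocus_iff, Set.mem_compl_iff, SetLike.mem_coe, eq_iff_iff,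
      Set.mem_ofPred_eq, hWV hy, and_true] at h
    rw [mem_Bl, ← not_iff_not, ← h]
    push Not
    rfl
  have hle : W ⊓ Bl fs ≤ U.ι ''ᵁ U.ι ⁻¹ᵁ W := by
    rw [Scheme.Hom.image_preimage_eq_opensRange_inf, Scheme.Opens.opensRange_ι]
    exact fun y hy => ⟨(hU y hy.1).2 hy.2, hy.1⟩
  have hge : U.ι ''ᵁ U.ι ⁻¹ᵁ W ≤ W ⊓ Bl fs := by
    rw [Scheme.Hom.image_preimage_eq_opensRange_inf, Scheme.Opens.opensRange_ι]
    exact fun y hy => ⟨hy.2, (hU y hy.2).1 hy.1⟩
  let K : CochainComplex X.Modules ℕ := IR.cocomplex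
  let x₀ : Γ(K.X i, W) := ((LocQCoh25.gammaι U.ι).app (K.X i)).app W z
  have hx₀ : rs (inf_le_left : W ⊓ Bl fs ≤ W) x₀ = 0 := by
    rw [← rs_rs (Scheme.Hom.image_preimage_le U.ι W) hle]
    exact (congrArg _ (LocQCoh25.gammaι_vanish U.ι (K.X i) W z)).trans (map_zero _)
  have hnat : ∀ (p q : ℕ) (t : Γ((DCoh.gammaZ U.ι).obj (K.X p), W)),
      ((LocQCoh25.gammaι U.ι).app (K.X q)).app W (((DCoh.gammaZ U.ι).map (K.d p q)).app W t) =
        (K.d p q).app W (((LocQCoh25.gammaι U.ι).app (K.X p)).app W t) := fun p q t =>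
    ConcreteCategory.congr_hom (congrArg (fun a => Scheme.Modules.Hom.app a W)
      ((LocQCoh25.gammaι U.ι).naturality (K.d p q))) t
  have hx₁ : Coc K i x₀ := by
    refine (hnat i (i + 1) z).symm.trans ?_
    exact (congrArg _ hz).trans (map_zero _)
  obtain ⟨w, hwB, hw⟩ := cocycle_krCx hWV (Bl fs) i
    (isZero_krCx_homology (K := K) hK IR.ι_f_zero_comp_complex_d hF hV fs hfs hWA hWV i (hlen ▸ hi)) x₀ hx₀ hx₁
  obtain ⟨t, ht⟩ := LocQCoh25.exists_gammaι U.ι (K.X (i - 1)) W w (by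
    show rs (Scheme.Hom.image_preimage_le U.ι W) w = 0
    rw [← rs_rs (inf_le_left : W ⊓ Bl fs ≤ W) hge, hwB, map_zero])
  refine ⟨t, LocQCoh25.gammaι_injective U.ι (K.X i) W ?_⟩
  exact (hnat (i - 1) i t).trans ((congrArg _ ht).trans hw)

end GrothLib.KReg3
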