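import Groth.Agent.Lib.KReg3.Alg
import Groth.Agent.Lib.Cohom.RpushModules
import Groth.Agent.Lib.LocQCoh25.LC
import Groth.Agent.Lib.LocVanish20.Main
import Groth.Agent.Lib.Pinch4.Sheaf

/-!
# Sections supported off basic opens, as complexes of modules
-/

set_option autoImplicit false
set_option backward.isDefEq.respectTransparency false
set_option linter.style.haveILetI false
set_option maxHeartbeats 800000
universe u

open CategoryTheory CategoryTheory.Limits AlgebraicGeometry TopologicalSpace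

namespace GrothLib.KReg3

open GrothLib.Cocyc GrothLib.ExtCech

variable {X : Scheme.{u}} {V : X.Opens}

/-- Sections over `A`, as a module over the functions on `V`. -/
def Sec {A : X.Opens} (_hA : A ≤ V) (N : X.Modules) : Type u := Γ(N, A)

noncomputable instance {A : X.Opens} (hA : A ≤ V) (N : X.Modules) : AddCommGroup (Sec hA N) :=
  inferInstanceAs (AddCommGroup Γ(N, A))

noncomputable instance {A : X.Opens} (hA : A ≤ V) (N : X.Modules) : Module Γ(X, V) (Sec hA N) :=
  Module.compHom Γ(N, A) (X.presheaf.map (homOfLE hA).op).hom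

theorem smul_def {A : X.Opens} (hA : A ≤ V) (N : X.Modules) (r : Γ(X, V)) (z : Γ(N, A)) :
    (show Γ(N, A) from r • (show Sec hA N from z)) = X.presheaf.map (homOfLE hA).op r • z := rfl

theorem rs_smul {A B : X.Opens} (hA : A ≤ V) (h : B ≤ A) (N : X.Modules) (r : Γ(X, V)) (z : Γ(N, A)) :
    rs h (X.presheaf.map (homOfLE hA).op r • z) = X.presheaf.map (homOfLE (h.trans hA)).op r • rs h z := by
  refine (Scheme.Modules.map_smul N (homOfLE h) _ z).trans ?_
  exact congrArg (· • rs h z) (Cohom.ringMap_map_apply (homOfLE hA) (homOfLE h) r)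

/-- Sections over `A` vanishing on `A ⊓ B`. -/
noncomputable def Kr {A : X.Opens} (hA : A ≤ V) (B : X.Opens) (N : X.Modules) :
    Submodule Γ(X, V) (Sec hA N) where
  carrier := {z | rs (inf_le_left : A ⊓ B ≤ A) (show Γ(N, A) from z) = 0}
  add_mem' {a b} ha hb := by
    show rs _ ((show Γ(N, A) from a) + (show Γ(N, A) from b)) = 0
    exact (map_add _ _ _).trans ((congrArg₂ (· + ·) ha hb).trans (add_zero 0))
  zero_mem' := map_zero _
  smul_mem' r z hz := by
    show rs _ (X.presheaf.map (homOfLE hA).op r • (show Γ(N, A) from z)) = 0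
    exact (rs_smul hA _ N r z).trans ((congrArg _ hz).trans (smul_zero _))

/-- A morphism of modules on the supported sections. -/
noncomputable def krMap {A : X.Opens} (hA : A ≤ V) (B : X.Opens) {M N : X.Modules} (φ : M ⟶ N) :
    Kr hA B M →ₗ[Γ(X, V)] Kr hA B N where
  toFun z := ⟨φ.app A (show Γ(M, A) from z.1), by
    show rs _ (φ.app A _) = 0
    rw [← app_rs]
    exact (congrArg (φ.app _) z.2).trans (map_zero _)⟩
  map_add' a b := Subtype.ext (map_add (QCoh.appLinear φ A) _ _)
  map_smul' r z := Subtype.ext (Scheme.Modules.Hom.app_smul φ _ _)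

/-- Supported sections as a functor. -/
noncomputable def krF {A : X.Opens} (hA : A ≤ V) (B : X.Opens) :
    X.Modules ⥤ ModuleCat.{u} Γ(X, V) where
  obj N := ModuleCat.of Γ(X, V) (Kr hA B N)
  map φ := ModuleCat.ofHom (krMap hA B φ)
  map_id N := by ext z; rfl
  map_comp φ ψ := by ext z; rfl

instance {A : X.Opens} (hA : A ≤ V) (B : X.Opens) : (krF hA B).Additive where
  map_add {M N f g} := by ext z; exact Subtype.ext rfl

/-- Enlarging the open where the sections vanish. -/
noncomputable def krIncl {A B B' : X.Opens} (hA : A ≤ V) (h : B ≤ B') : krF hA B' ⟶ krF hA B where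
  app N := ModuleCat.ofHom
    { toFun := fun z => ⟨z.1, by
        show rs _ _ = 0
        rw [← rs_rs (inf_le_left : A ⊓ B' ≤ A) (inf_le_inf_left A h)]
        exact (congrArg _ z.2).trans (map_zero _)⟩
      map_add' := fun _ _ => rfl
      map_smul' := fun _ _ => rfl }
  naturality M N φ := by ext z; rfl

/-- Restriction of supported sections. -/
noncomputable def krRes {A A' B : X.Opens} (hA : A ≤ V) (h : A' ≤ A) : krF hA B ⟶ krF (h.trans hA) B where
  app N := ModuleCat.ofHom
    { toFun := fun z => ⟨rs h (show Γ(N, A) from z.1), by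
        show rs _ (rs h _) = 0
        rw [rs_rs, ← rs_rs (inf_le_left : A ⊓ B ≤ A) (inf_le_inf_right B h)]
        exact (congrArg _ z.2).trans (map_zero _)⟩
      map_add' := fun a b => Subtype.ext (map_add _ _ _)
      map_smul' := fun r z => Subtype.ext (rs_smul hA h N r _) }
  naturality M N φ := by
    ext z
    exact Subtype.ext (app_rs φ h _).symm

variable (K : CochainComplex X.Modules ℕ)

/-- The complex of supported sections. -/
noncomputable abbrev krCx {A : X.Opens} (hA : A ≤ V) (B : X.Opens) :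
    CochainComplex (ModuleCat.{u} Γ(X, V)) ℕ :=
  ((krF hA B).mapHomologicalComplex _).obj K

variable {K} (hfl : ∀ n {S T : X.Opens} (h : T ≤ S), Function.Surjective (rs (N := K.X n) h))

include hfl in
theorem exists_supportSES {A : X.Opens} (hA : A ≤ V) (B C : X.Opens) :
    ∃ S : ShortComplex (CochainComplex (ModuleCat.{u} Γ(X, V)) ℕ), S.ShortExact ∧
      S.X₁ = krCx K hA (B ⊔ C) ∧ S.X₂ = krCx K hA B ∧
      S.X₃ = krCx K ((inf_le_left : A ⊓ C ≤ A).trans hA) B := by
  let f := (NatTrans.mapHomologicalComplex (krIncl hA (le_sup_left : B ≤ B ⊔ C)) (ComplexShape.up ℕ)).app K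
  let g := (NatTrans.mapHomologicalComplex (krRes (B := B) hA (inf_le_left : A ⊓ C ≤ A)) (ComplexShape.up ℕ)).app K
  have hfg : f ≫ g = 0 := by
    ext n z
    refine Subtype.ext ?_
    show rs (inf_le_left : A ⊓ C ≤ A) (show Γ(K.X n, A) from z.1) = 0
    rw [← rs_rs (inf_le_left : A ⊓ (B ⊔ C) ≤ A) (inf_le_inf_left A le_sup_right)]
    exact (congrArg _ z.2).trans (map_zero _)
  refine ⟨ShortComplex.mk f g hfg, HomologicalComplex.shortExact_of_degreewise_shortExact _ fun n => ?_,
    rfl, rfl, rfl⟩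
  refine { exact := ?_, mono_f := ?_, epi_g := ?_ }
  · rw [ShortComplex.moduleCat_exact_iff]
    intro z hz
    refine ⟨⟨z.1, ?_⟩, rfl⟩
    have h1 : rs (inf_le_left : A ⊓ C ≤ A) (show Γ(K.X n, A) from z.1) = 0 := congrArg Subtype.val hz
    refine eq_of_sup (K.X n) (V := A ⊓ B) (W := A ⊓ C) ?_ (inf_le_inf_left A le_sup_left)
      (inf_le_inf_left A le_sup_right) ?_ ?_
    · rw [inf_sup_left]
    · exact (rs_rs _ _ _).trans (z.2.trans (map_zero _).symm)
    · exact (rs_rs _ _ _).trans (h1.trans (map_zero _).symm)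
  · refine (ModuleCat.mono_iff_injective _).2 fun a b h => ?_
    have h' := congrArg Subtype.val h
    exact Subtype.ext h'
  · refine (ModuleCat.epi_iff_surjective _).2 fun s => ?_
    have hs : rs (inf_le_left : (A ⊓ C) ⊓ B ≤ A ⊓ C) (show Γ(K.X n, A ⊓ C) from s.1) = 0 := s.2
    obtain ⟨t, ht₁, ht₂⟩ := exists_glue (K.X n) (T := (A ⊓ C) ⊔ (A ⊓ B)) le_rfl le_sup_left le_sup_right
      (show Γ(K.X n, A ⊓ C) from s.1) (0 : Γ(K.X n, A ⊓ B)) (by
        rw [map_zero, ← rs_rs (inf_le_left : (A ⊓ C) ⊓ B ≤ A ⊓ C)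
          (le_inf inf_le_left (inf_le_right.trans inf_le_right)), hs, map_zero])
    obtain ⟨a, rfl⟩ := hfl n (sup_le inf_le_left inf_le_left : (A ⊓ C) ⊔ (A ⊓ B) ≤ A) t
    refine ⟨⟨a, ?_⟩, Subtype.ext ?_⟩
    · exact (rs_rs _ _ _).symm.trans ht₂
    · exact (rs_rs _ _ _).symm.trans ht₁

theorem isIso_smul_krCx (g : Γ(X, V)) {A : X.Opens} (hA : A ≤ V) (hg : A ≤ X.basicOpen g) (B : X.Opens)
    (p : ℤ) : IsIso (g • 𝟙 ((ext0.obj (krCx K hA B)).X p)) := by
  by_cases hp : 0 ≤ p
  · obtain ⟨n, rfl⟩ := Int.eq_ofNat_of_zero_le hp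
    refine @isIso_smul_of_iso _ _ g _ _ (HomologicalComplex.extendXIso (krCx K hA B)
      ComplexShape.embeddingUpNat (rfl : ComplexShape.embeddingUpNat.f n = (n : ℤ))) ?_
    have hu : IsUnit (X.presheaf.map (homOfLE hA).op g) := by
      have h := (RingedSpace.isUnit_res_basicOpen X.toLocallyRingedSpace.toRingedSpace g).map
        (X.presheaf.map (homOfLE hg).op).hom
      convert h using 1
      exact (Cohom.ringMap_map_apply (homOfLE (X.basicOpen_le g)) (homOfLE hg) g).symm
    obtain ⟨w, hw⟩ := hu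
    rw [ConcreteCategory.isIso_iff_bijective]
    change Function.Bijective (fun z : Kr hA B (K.X n) => g • z)
    refine ⟨fun a b h => ?_, fun z => ?_⟩
    · refine Subtype.ext ?_
      have h' : (w : Γ(X, A)) • (show Γ(K.X n, A) from a.1) = (w : Γ(X, A)) • (show Γ(K.X n, A) from b.1) := by
        rw [hw]; exact congrArg Subtype.val h
      have h2 := congrArg (fun t => (↑w⁻¹ : Γ(X, A)) • t) h'
      simp only [← mul_smul, Units.inv_mul, one_smul] at h2
      exact h2
    · refine ⟨⟨(↑w⁻¹ : Γ(X, A)) • (show Γ(K.X n, A) from z.1), ?_⟩, Subtype.ext ?_⟩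
      · show rs _ _ = 0
        exact (Scheme.Modules.map_smul (K.X n) (homOfLE inf_le_left) _ _).trans ((congrArg _ z.2).trans (smul_zero _))
      · show X.presheaf.map (homOfLE hA).op g • (↑w⁻¹ : Γ(X, A)) • (show Γ(K.X n, A) from z.1) = _
        rw [← hw, ← mul_smul, Units.mul_inv, one_smul]
  · have h := isZero_ext0_X (krCx K hA B) p (by omega)
    exact ⟨0, h.eq_of_src _ _, h.eq_of_src _ _⟩

theorem cocycle_krCx {A : X.Opens} (hA : A ≤ V) (B : X.Opens) (n : ℕ)
    (h : IsZero ((krCx K hA B).homology n)) (z : Γ(K.X n, A)) (hzB : rs (inf_le_left : A ⊓ B ≤ A) z = 0)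
    (hz : Coc K n z) : ∃ w : Γ(K.X (n - 1), A),
      rs (inf_le_left : A ⊓ B ≤ A) w = 0 ∧ (K.d (n - 1) n).app A w = z := by
  have he := ((krCx K hA B).exactAt_iff' (n - 1) n (n + 1) (prev_eq n) (CochainComplex.next ℕ n)).1
    ((HomologicalComplex.exactAt_iff_isZero_homology _ _).2 h)
  obtain ⟨w, hw⟩ := (ShortComplex.moduleCat_exact_iff _).1 he (⟨z, hzB⟩ : Kr hA B (K.X n)) (Subtype.ext hz)
  exact ⟨w.1, w.2, congrArg Subtype.val hw⟩

end GrothLib.KReg3
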